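import Cfsg.Agent.Lib.SD.Au
import Cfsg.Agent.Lib.SpA.Gen

/-!
# S3129, family `Sp_{2k}(q²)`: the homomorphism from `Sp_{2k}(K)`, `K = F ⊕ F ω`.  Port of `S6/YH`.
-/

set_option autoImplicit false
set_option linter.unusedSectionVars false

namespace Cfsg.Lib.SPS.FS

open Subgroup Cfsg.Lib.BG Cfsg.Lib.Symp Cfsg.Lib.SD Cfsg.Lib.SpA Cfsg.Lib.Chev Module
open scoped Cfsg.Lib.Transfer commutatorElement

variable {F K V : Type*} [Field F] [Finite F] [CharP F 2] [Field K] [Finite K] [CharP K 2] [Algebra F K] [AddCommGroup V] [Module F V] [FiniteDimensional F V]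
  {B : LinearMap.BilinForm F V} {G G' : Type*} [Group G] [Group G'] {y : K → V → V → G} {τ : K → V → G} {ω p : K} {e u v w f f' : V} {k : ℕ}

/-- The relations of `SPS.HS` for `s = id`. -/
structure RS (B : LinearMap.BilinForm F V) (y : K → V → V → G) (τ : K → V → G) : Prop where
  add : ∀ p p' u w, B u w = 0 → y (p + p') u w = y p u w * y p' u w
  sml : ∀ (c : F) p u w, B u w = 0 → y p (c • u) w = y (c • p) u w
  sym : ∀ p u w, B u w = 0 → y p w u = y p u w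
  diag : ∀ p u, y p u u = 1
  addw : ∀ p u w w', B u w = 0 → B u w' = 0 → y p u w * y p u w' = y p u (w + w') * τ (B w w' • (p * p)) u
  c1 : ∀ p p' u w w', B u w = 0 → B u w' = 0 → Commute (y p u w) (y p' u w')
  c0 : ∀ p p' u w u' w', B u w = 0 → B u' w' = 0 → B u u' = 0 → B u w' = 0 → B w u' = 0 → B w w' = 0 → Commute (y p u w) (y p' u' w')
  a2 : ∀ p p' u f e w, B u f = 0 → B e w = 0 → B u e = 0 → B u w = 0 → B f w = 0 → B f e = 1 → ⁅y p u f, y p' e w⁆ = y (p * p') u w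
  addτ : ∀ r r' u, τ (r + r') u = τ r u * τ r' u
  cττ : ∀ r r' u u', B u u' = 0 → Commute (τ r u) (τ r' u')
  cτy : ∀ r p u e w, B e w = 0 → B u e = 0 → B u w = 0 → Commute (τ r u) (y p e w)
  b2 : ∀ p r u f e, B u f = 0 → B u e = 0 → B f e = 1 → y p u f * τ r e * y p u f = τ r e * τ (r * p * p) u * y (r * p) u e

/-- `1, ω` is a basis of `K`. -/
structure Bs (F : Type*) [Field F] [Algebra F K] (ω : K) : Prop where
  sp : ∀ p : K, ∃ a b : F, p = a • 1 + b • ω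
  ind : ∀ a b : F, a • (1 : K) + b • ω = 0 → a = 0 ∧ b = 0

/-- The rational vectors. -/
def iv (K : Type*) [Field K] [Algebra F K] (u : Fin k ⊕ Fin k → F) : Fin k ⊕ Fin k → K := algebraMap F K ∘ u

theorem iv_add (u w : Fin k ⊕ Fin k → F) : iv K (u + w) = iv K u + iv K w := funext fun _ => map_add _ _ _
theorem iv_smul (c : F) (u : Fin k ⊕ Fin k → F) : iv K (c • u) = algebraMap F K c • iv K u := funext fun _ => map_mul _ _ _
theorem iv_zero : iv K (0 : Fin k ⊕ Fin k → F) = 0 := funext fun _ => map_zero _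
theorem bil_iv (u w : Fin k ⊕ Fin k → F) : bil _ K (iv K u) (iv K w) = algebraMap F K (bil _ F u w) := bil_comp _ u w
theorem iv_bvC (a : Fin (2 * k)) : iv K (bvC F a) = bvC K a := funext fun i => by simp [iv, bvC, Pi.single_apply, apply_ite]
theorem sgC_K (a : Fin (2 * k)) : ((sgC a : ℤ) : K) = 1 := by unfold sgC; split_ifs <;> simp [CharTwo.neg_eq]
theorem bvC_rev (a : Fin (2 * k)) : bil _ K (bvC K a.rev) (bvC K a) = 1 := by rw [bil_bvC, sgC_K]; simp [bvC]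

theorem spEquiv_sgp (u w : Fin k ⊕ Fin k → K) (c : K) : spEquiv _ K (sgp u w c) = E (bil _ K) u w c := by
  unfold sgp E
  by_cases h : bil _ K u w = 0
  · rw [dif_pos h, dif_pos ⟨bil_isAlt _ K, h⟩, MulEquiv.apply_symm_apply]
  · rw [dif_neg h, dif_neg fun k => h k.2, map_one]

/-- `xSp_long`, `xSp_short`, `sgC_K`. -/
theorem xSp_E (r : Rt (2 * k) true) (c : K) : spEquiv _ K (xSp K r c) =
    if r.1.1 = r.1.2 then E (bil _ K) (bvC K r.1.1) 0 c else E (bil _ K) (bvC K r.1.1) (c • bvC K r.1.2) 0 := by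
  split_ifs with h
  exacts [by rw [xSp_long h, sgC_K, mul_one, spEquiv_sgp], by rw [xSp_short h, sgC_K, mul_one, spEquiv_sgp]]

/-- `(realSp K k).top` for `H.comap spEquiv`. -/
theorem gen_root (H : Subgroup (isom (bil (Fin k) K))) (h1 : ∀ a c, E (bil _ K) (bvC K a) 0 c ∈ H)
    (h2 : ∀ a b (c : K), b ≠ a.rev → E (bil _ K) (bvC K a) (c • bvC K b) 0 ∈ H) : H = ⊤ := by
  have := (realSp K k).top (H.comap (spEquiv _ K).toMonoidHom) fun r c => by
    change spEquiv _ K (xSp K r c) ∈ H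
    rw [xSp_E]
    split_ifs
    exacts [h1 _ _, h2 _ _ _ r.2.2]
  refine top_unique fun g _ => ?_
  simpa using this.ge (mem_top ((spEquiv _ K).symm g))

/-- The model (`E_mul`, `E_smul`, `E_sw`, `E_of_mem`, `conj_E`, `E_cm`, `E_ap`; `Algebra.smul_def`). -/
theorem rs_sp (q : Sq (bil (Fin k) K)) : RS (bil (Fin k) F) (fun p u w => E (bil _ K) (iv K u) (p • iv K w) 0) fun r u => E (bil _ K) (iv K u) 0 r := by
  have o : ∀ {u w : Fin k ⊕ Fin k → F}, bil _ F u w = 0 → bil _ K (iv K u) (iv K w) = 0 := fun h => by rw [bil_iv, h, map_zero]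
  have o' : ∀ {u w : Fin k ⊕ Fin k → F} (p : K), bil _ F u w = 0 → bil _ K (iv K u) (p • iv K w) = 0 := fun p h => by rw [map_smul, o h, smul_zero]
  have cm : ∀ {g : isom (bil (Fin k) K)} {u w r}, g.1 u = u → g.1 w = w → Commute (E (bil _ K) u w r) g := E_cm
  have two : (2 : K) = 0 := two0
  refine ⟨fun p p' u w h => ?_, fun c p u w h => ?_, fun p u w h => ?_, fun p u => ?_, fun p u w w' h h' => ?_, fun p p' u w w' h h' => q.E_comm (o' p h) (o' p' h') _ _,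
    fun p p' u w u' w' h h' h1 h2 h3 h4 => cm (q.E_fix (o' p' h') (o h1) (o' p' h2)) (q.E_fix (o' p' h') (by simp [o h3]) (by simp [o h4])),
    fun p p' u f e w h h' h1 h2 h3 h4 => ?_, fun r r' u => ?_, fun r r' u u' h => cm (q.E_fix (map_zero _) (o h) (map_zero _)) (map_zero _),
    fun r p u e w h h1 h2 => cm (q.E_fix (o' p h) (o h1) (o' p h2)) (map_zero _), fun p r u f e h h1 h2 => ?_⟩
  · rw [q.E_mul (o' p h) (o' p' h), add_smul]; simp [q.bb]
  · rw [iv_smul, q.E_smul (o' p h), smul_smul, mul_zero, Algebra.smul_def c]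
  · rw [← q.E_sw (o' p h), q.E_smul (q.o' (o h)), mul_zero]
  · rw [q.E_of_mem (sm_self p _), q.E_zero]
  · rw [q.E_mul (o' p h) (o' p h'), q.E_mul (o' p (by rw [map_add, h, h', add_zero])) (map_zero _), iv_add, smul_add]
    simp [bil_iv, Algebra.smul_def (R := F), mul_comm, mul_assoc]
  · have e1 : (E (bil _ K) (iv K u) (p • iv K f) 0).1 (iv K e) = iv K e + p • iv K u := by
      simp [q.E_ap (o' p h), q.o' (o h1), q.sy (iv K e), bil_iv, h4]
    have e2 : (E (bil _ K) (iv K u) (p • iv K f) 0).1 (iv K w) = iv K w := q.E_fix (o' p h) (q.o' (o h2)) (by simp [q.o' (o h3)])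
    have a : bil _ K (iv K w) (p' • iv K e) = 0 := by simp [q.o' (o h')]
    have b : bil _ K (iv K w) ((p * p') • iv K u) = 0 := by simp [q.o' (o h2)]
    have s : ∀ {x y : Fin k ⊕ Fin k → K} (p : K), bil _ K x y = 0 → E (bil _ K) x (p • y) 0 = E (bil _ K) y (p • x) 0 := fun p h => by
      rw [← q.E_sw (by simp [h]), q.E_smul (q.o' h), mul_zero]
    rw [commutatorElement_def, s p' (o h'), conj_E, map_smul, e1, e2, q.E_inv, q.E_mul (by simp [q.o' (o h'), q.o' (o h2)]) a, s _ (o h2), smul_add, smul_smul, mul_comm p',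
      add_right_comm, vv K, zero_add]
    simp [q.bb, o h1]
  · rw [q.E_mul (map_zero _) (map_zero _)]; simp
  · have e1 : (E (bil _ K) (iv K u) (p • iv K f) 0).1 (iv K e) = iv K e + p • iv K u := by
      simp [q.E_ap (o' p h), q.o' (o h1), q.sy (iv K e), bil_iv, h2]
    have a : bil _ K (iv K e) (iv K u) = 0 := q.o' (o h1)
    nth_rw 2 [← q.E_inv (iv K u) (p • iv K f)]
    rw [conj_E, map_zero, e1]
    refine eq_of_nv fun x => ?_
    simp only [nv_mul', q.nv_E (map_zero _), q.nv_E (o' _ h1), map_add, map_smul, map_zero, smul_zero, LinearMap.add_apply, LinearMap.smul_apply, smul_eq_mul,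
      LinearMap.zero_apply, q.bb, a, o h1]
    match_scalars <;> grind

theorem rt_pair (r s : Rt (2 * k) true) (h1 : s ≠ r) (h2 : s ≠ r.neg) : ∃ x, (x ≠ r.1.1.rev ∧ x ≠ r.1.2.rev) ∧ (x ≠ s.1.1.rev ∧ x ≠ s.1.2.rev) ∧
    ((x = r.1.1 ∨ x = r.1.2) ∨ x = s.1.1 ∨ x = s.1.2) := by
  obtain ⟨⟨a, b⟩, h3, h4⟩ := r
  obtain ⟨⟨c, d⟩, h5, h6⟩ := s
  by_contra! H
  have k1 := H a
  have k2 := H b
  have k3 := H c
  have k4 := H d
  simp only [ne_eq, Subtype.mk.injEq, Prod.mk.injEq, Rt.neg] at h1 h2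
  simp only [ne_eq, Fin.ext_iff, Fin.val_rev, Fin.lt_def, true_and, not_true, false_and, and_false, imp_false] at h1 h2 h3 h4 h5 h6 k1 k2 k3 k4
  omega

/-- `simp only [Rt.v, Pi.add_apply, eps_apply, dl_def, Fin.ext_iff, Fin.val_rev]`, `split_ifs <;> omega` (use `r.2`). -/
theorem rt_v (r : Rt (2 * k) true) (a : Fin (2 * k)) : ((a ≠ r.1.1.rev ∧ a ≠ r.1.2.rev) ↔ 0 ≤ r.v a) ∧ ((a = r.1.1 ∨ a = r.1.2) ↔ 0 < r.v a) := by
  obtain ⟨⟨b, c⟩, h3, h4⟩ := r
  simp only [Rt.v, Pi.add_apply, eps_apply, dl_def, ne_eq, Fin.ext_iff, Fin.val_rev] at h4 ⊢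
  split_ifs <;> omega

namespace RS
variable (h : RS B y τ) (q : Sq B)
include h

theorem prod {y' : K → V → V → G'} {τ' : K → V → G'} (h' : RS B y' τ') : RS B (fun p u w => (y p u w, y' p u w)) fun r u => (τ r u, τ' r u) := by
  exact ⟨fun _ _ _ _ a => Prod.ext (h.add _ _ _ _ a) (h'.add _ _ _ _ a), fun _ _ _ _ a => Prod.ext (h.sml _ _ _ _ a) (h'.sml _ _ _ _ a),
    fun _ _ _ a => Prod.ext (h.sym _ _ _ a) (h'.sym _ _ _ a), fun _ _ => Prod.ext (h.diag _ _) (h'.diag _ _),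
    fun _ _ _ _ a b => Prod.ext (h.addw _ _ _ _ a b) (h'.addw _ _ _ _ a b), fun _ _ _ _ _ a b => (h.c1 _ _ _ _ _ a b).prod (h'.c1 _ _ _ _ _ a b),
    fun _ _ _ _ _ _ a b c d e f => (h.c0 _ _ _ _ _ _ a b c d e f).prod (h'.c0 _ _ _ _ _ _ a b c d e f),
    fun _ _ _ _ _ _ a b c d e f => Prod.ext (h.a2 _ _ _ _ _ _ a b c d e f) (h'.a2 _ _ _ _ _ _ a b c d e f), fun _ _ _ => Prod.ext (h.addτ _ _ _) (h'.addτ _ _ _),
    fun _ _ _ _ a => (h.cττ _ _ _ _ a).prod (h'.cττ _ _ _ _ a), fun _ _ _ _ _ a b c => (h.cτy _ _ _ _ _ a b c).prod (h'.cτy _ _ _ _ _ a b c),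
    fun _ _ _ _ _ a b c => Prod.ext (h.b2 _ _ _ _ _ a b c) (h'.b2 _ _ _ _ _ a b c)⟩

theorem τ0 (u : V) : τ 0 u = 1 := by simpa using h.addτ 0 0 u
theorem y0 (o : B u w = 0) : y 0 u w = 1 := by simpa using h.add 0 0 u w o
theorem τ2 (r : K) (u : V) : τ r u * τ r u = 1 := by rw [← h.addτ, CharTwo.add_self_eq_zero, h.τ0]
theorem y2 (p : K) (o : B u w = 0) : y p u w * y p u w = 1 := by rw [← h.add _ _ _ _ o, CharTwo.add_self_eq_zero, h.y0 o]

include q

theorem smw (c : F) (p : K) (o : B u w = 0) : y p u (c • w) = y (c • p) u w := by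
  rw [← h.sym _ _ _ (by rw [map_smul, o, smul_zero]), h.sml _ _ _ _ (q.o' o), h.sym _ _ _ o]

theorem yz (p : K) (u : V) : y p u 0 = 1 := by rw [← zero_smul F u, h.smw q _ _ (q.bb u), h.diag]

theorem cτ (r p : K) (o : B e w = 0) : Commute (τ r e) (y p e w) := h.cτy _ _ _ _ _ o (q.bb e) o

theorem mulW {v v' w w' : V} (c d : K) (a : B e v = 0) (a' : B e v' = 0) (b : B e w = 0) (b' : B e w' = 0) :
    y 1 e v * y ω e v' * τ c e * (y 1 e w * y ω e w' * τ d e) = y 1 e (v + w) * y ω e (v' + w') * τ (B v w • (1 * 1) + B v' w' • (ω * ω) + c + d) e := by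
  have k1 := h.addw 1 e v w a b
  have k2 := h.addw ω e v' w' a' b'
  have c1 := (h.cτ q (B v w • (1 * 1)) ω (w := v' + w') (by rw [map_add, a', b', add_zero])).eq
  have c2 := ((h.cτ q c 1 b).mul_right (h.cτ q c ω b')).eq
  have c3 := (h.c1 ω 1 e v' w a' b).eq
  rw [h.addτ, h.addτ, h.addτ]
  calc _ = y 1 e v * y ω e v' * (τ c e * (y 1 e w * y ω e w')) * τ d e := by group
    _ = y 1 e v * (y ω e v' * y 1 e w) * y ω e w' * τ c e * τ d e := by rw [c2]; group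
    _ = y 1 e v * y 1 e w * (y ω e v' * y ω e w') * τ c e * τ d e := by rw [c3]; group
    _ = y 1 e (v + w) * (τ (B v w • (1 * 1)) e * y ω e (v' + w')) * τ (B v' w' • (ω * ω)) e * τ c e * τ d e := by rw [k1, k2]; group
    _ = _ := by rw [c1]; group

/-- The group `Q_e`. -/
def W (ω : K) (e : V) : Subgroup G where
  carrier := {g | ∃ w w' c, B e w = 0 ∧ B e w' = 0 ∧ g = y 1 e w * y ω e w' * τ c e}
  one_mem' := ⟨0, 0, 0, map_zero _, map_zero _, by rw [h.yz q, h.yz q, h.τ0, mul_one, mul_one]⟩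
  mul_mem' := by
    rintro _ _ ⟨v, v', c, a, a', rfl⟩ ⟨w, w', d, b, b', rfl⟩
    exact ⟨_, _, _, by rw [map_add, a, b, add_zero], by rw [map_add, a', b', add_zero], h.mulW q c d a a' b b'⟩
  inv_mem' := by
    rintro _ ⟨v, v', c, a, a', rfl⟩
    refine ⟨v, v', c, a, a', inv_eq_of_mul_eq_one_left ?_⟩
    rw [h.mulW q c c a a' a a', vv F, vv F, h.yz q, h.yz q, q.bb, q.bb, zero_smul, zero_smul, add_zero, zero_add, CharTwo.add_self_eq_zero, h.τ0, mul_one, mul_one]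

theorem τW (r : K) (e : V) : τ r e ∈ h.W q ω e := by
  exact ⟨0, 0, r, map_zero _, map_zero _, by rw [h.yz q, h.yz q, one_mul, one_mul]⟩

/-- `p = a + b ω`, `add`, `smw`. -/
theorem yW (b : Bs F ω) (p : K) (o : B e w = 0) : y p e w ∈ h.W q ω e := by
  obtain ⟨a, c, rfl⟩ := b.sp p
  exact ⟨a • w, c • w, 0, by simp [o], by simp [o], by rw [h.add _ _ _ _ o, h.smw q _ _ o, h.smw q _ _ o, h.τ0, mul_one]⟩

/-- An involution `n` normalizes `W` if it maps the `τ c e` and `y p e w` into `W`. -/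
theorem nW {n : G} (n2 : n * n = 1) (h1 : ∀ c, n * τ c e * n⁻¹ ∈ h.W q ω e) (h2 : ∀ p w, B e w = 0 → n * y p e w * n⁻¹ ∈ h.W q ω e) : n ∈ 𝐍(h.W q ω e) := by
  have k : ∀ g ∈ h.W q ω e, n * g * n⁻¹ ∈ h.W q ω e := by
    rintro _ ⟨w, w', c, a, a', rfl⟩
    rw [← conj_mul, ← conj_mul]
    exact mul_mem (mul_mem (h2 _ _ a) (h2 _ _ a')) (h1 c)
  refine mem_normalizer_iff.2 fun g => ⟨k g, fun b => ?_⟩
  simpa [mul_assoc, inv_eq_of_mul_eq_one_left n2, ← mul_assoc n n, n2] using k _ b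

/-- `β = B w u`.  `β = 0`: `cτy`.  Otherwise `y p e w = y (β • p) e (β⁻¹ • w)`; `b2` gives `τ r u * y p e f * τ r u = τ (r p²) e * y (r p) e u * y p e f` for `B f u = 1`. -/
theorem τN (b : Bs F ω) (r : K) (o : B e u = 0) : τ r u ∈ 𝐍(h.W q ω e) := by
  refine h.nW q (h.τ2 r u) (fun c => by rw [← (h.cττ _ _ _ _ o).eq, mul_inv_cancel_right]; exact h.τW q c e) fun p w a => ?_
  obtain k | k := eq_or_ne (B w u) 0
  · rw [(h.cτy _ _ _ _ _ a (q.o' o) (q.o' k)).eq, mul_inv_cancel_right]; exact h.yW q b p a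
  have a' : B e ((B w u)⁻¹ • w) = 0 := by simp [a]
  have e1 : y p e w = y (B w u • p) e ((B w u)⁻¹ • w) := by rw [h.smw q _ _ a, inv_smul_smul₀ k]
  have := h.b2 (B w u • p) r e _ u a' o (by simp [k])
  rw [← e1, ← eq_mul_inv_iff_mul_eq, mul_assoc (τ r u), mul_assoc (τ r u)] at this
  rw [mul_assoc, inv_eq_of_mul_eq_one_left (h.τ2 r u), this, ← mul_assoc, h.τ2, one_mul]
  exact mul_mem (mul_mem (h.τW q _ e) (h.yW q b _ o)) (inv_mem (h.yW q b p a))

/-- `w = w₀ + B w u • f + B w v • f'` with `w₀ ⊥ e, u, v`; `addw` writes `y p e w` as a product; `c0` for `w₀`, `a2` for `f` (`⁅y p e f, y p' u v⁆ = y (p p') e v`) and `f'` (`sym`), `cτy`. -/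
theorem yN (b : Bs F ω) (p : K) (o : B u v = 0) (o1 : B e u = 0) (o2 : B e v = 0) (a1 : B e f = 0) (a2 : B f u = 1) (a3 : B f v = 0)
    (b1 : B e f' = 0) (b2 : B f' u = 0) (b3 : B f' v = 1) : y p u v ∈ 𝐍(h.W q ω e) := by
  refine h.nW q (h.y2 p o) (fun c => by rw [← (h.cτy _ _ _ _ _ o o1 o2).eq, mul_inv_cancel_right]; exact h.τW q c e) fun p' w a => ?_
  let A := (h.W q ω e).comap (MulAut.conj (y p u v)).toMonoidHom
  have mA : ∀ {g}, y p u v * g * (y p u v)⁻¹ ∈ h.W q ω e → g ∈ A := id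
  have t : ∀ c, τ c e ∈ A := fun c => mA <| by rw [← (h.cτy _ _ _ _ _ o o1 o2).eq, mul_inv_cancel_right]; exact h.τW q c e
  have ad : ∀ {w w'}, B e w = 0 → B e w' = 0 → y p' e w ∈ A → y p' e w' ∈ A → y p' e (w + w') ∈ A := fun a a' k k' =>
    (mul_mem_cancel_right (t _)).1 (h.addw _ _ _ _ a a' ▸ mul_mem k k')
  have k : ∀ {u' v' f}, y p u' v' = y p u v → B u' v' = 0 → B e u' = 0 → B e v' = 0 → B e f = 0 → B f u' = 1 → B f v' = 0 → ∀ c : F, y p' e (c • f) ∈ A :=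
    fun {u' v' f} e' o o1 o2 a1 a2 a3 c => mA <| by
      have := h.a2 (c • p') p e f u' v' a1 o o1 o2 a3 a2
      rw [← commutatorElement_inv, inv_eq_iff_eq_inv, commutatorElement_def, mul_inv_eq_iff_eq_mul, e'] at this
      rw [h.smw q _ _ a1, this]
      exact mul_mem (inv_mem (h.yW q b _ o2)) (h.yW q b _ a1)
  have a0 : B e (w + B w u • f + B w v • f') = 0 := by simp [a, a1, b1]
  have := ad (by simp [a, a1, b1]) (by simp [a1]) (ad a0 (by simp [b1]) (mA <| by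
    rw [← (h.c0 p' p _ _ _ _ a0 o o1 o2 (by simp [a2, b2, CharTwo.add_self_eq_zero]) (by simp [a3, b3, CharTwo.add_self_eq_zero])).eq, mul_inv_cancel_right]
    exact h.yW q b _ a0) (k (h.sym _ _ _ o) (q.o' o) o2 o1 b1 b3 b2 (B w v))) (k rfl o o1 o2 a1 a2 a3 (B w u))
  rwa [add_assoc _ _ (B w v • f'), vv F, add_zero, add_assoc, vv F, add_zero] at this

end RS

/-- As `S6.HS.exists_hom`.  `h' = (rs_sp qK).prod h`, `ŷ r c = τ̂ c e_a` (long), `ŷ c e_a e_b` (short), `e_a = bvC F a`; `(ŷ r c).1 = spEquiv (xSp K r c)` (`xSp_E`).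
`Good fst (Ŵ e_x)`: the first coordinate is `E e (iv w + ω • iv w') (c + ω B w w')`; `E_inj` and `Bs.ind` (coordinates `i ≠ idx x`) give `w, w' ∈ F e_x`, `c = 0`; `smw`, `diag`.
`ŷ r c ∈ Ŵ e_x` for `x ∈ {a, b}` (`τW`, `yW`, `sym`); `ŷ r c ∈ N(Ŵ e_x)` for `x ≠ a.rev, b.rev` (`τN`; `x ∈ {a, b}`: `le_norm`; else `yN` with `f = e_{a.rev}`, `f' = e_{b.rev}`).
`Φ : Sp →* isom × G`, `φ = snd ∘ Φ ∘ spEquiv.symm`; for `b < a` use `E_sw`-type symmetry (`(rs_sp qK).sym`, `h.sym`), for `a = b` `diag`. -/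
theorem RS.exists_hom {y : K → (Fin k ⊕ Fin k → F) → (Fin k ⊕ Fin k → F) → G} {τ : K → (Fin k ⊕ Fin k → F) → G} (h : RS (bil (Fin k) F) y τ)
    (q : Sq (bil (Fin k) F)) (qK : Sq (bil (Fin k) K)) (b : Bs F ω) : ∃ φ : isom (bil (Fin k) K) →* G, (∀ a c, φ (E (bil _ K) (bvC K a) 0 c) = τ c (bvC F a)) ∧
      ∀ a b c, b ≠ a.rev → φ (E (bil _ K) (bvC K a) (c • bvC K b) 0) = y c (bvC F a) (bvC F b) := by
  have h' := (rs_sp (F := F) qK).prod h
  set yy := fun (p : K) u w => (E (bil _ K) (iv K u) (p • iv K w) 0, y p u w)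
  set ττ := fun (r : K) u => (E (bil _ K) (iv K u) 0 r, τ r u)
  let Y : Rt (2 * k) true → K → _ := fun r c => if r.1.1 = r.1.2 then ττ c (bvC F r.1.1) else yy c (bvC F r.1.1) (bvC F r.1.2)
  have e : ∀ r c, (Y r c).1 = spEquiv _ K (xSp K r c) := fun r c => by
    rw [xSp_E]; simp only [Y]; split_ifs <;> simp only [yy, ττ, iv_bvC]
  have nz : ∀ x : Fin (2 * k), bvC K x ≠ 0 := fun x c => by simpa [c] using bvC_rev (K := K) x
  have g : ∀ x, Good (MonoidHom.fst _ _) (h'.W q ω (bvC F x)) := by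
    rintro x _ ⟨w, w', c, a, a', rfl⟩ z
    have i : ∀ {w} (p : K), bil _ F (bvC F x) w = 0 → bil _ K (bvC K x) (p • iv K w) = 0 := fun p a => by rw [map_smul, ← iv_bvC (F := F), bil_iv, a, map_zero, smul_zero]
    have i' : bil _ K (bvC K x) ((1 : K) • iv K w + ω • iv K w') = 0 := by rw [map_add, i _ a, i _ a', add_zero]
    change E _ _ _ _ * E _ _ _ _ * E _ _ _ _ = 1 at z
    rw [iv_bvC, qK.E_mul (i _ a) (i _ a'), qK.E_mul i' (map_zero _), add_zero, ← qK.E_zero (bvC K x)] at z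
    obtain ⟨z1, z2⟩ := qK.E_inj (nz x) i' (map_zero _) z
    obtain ⟨r, z1⟩ := Submodule.mem_span_singleton.1 z1
    have k : ∀ j, j ≠ idx k x → w j = 0 ∧ w' j = 0 := fun j n => b.ind _ _ (by simpa [bvC, n, iv, Algebra.smul_def, mul_comm] using (congrFun z1 j).symm)
    have k' : ∀ {w : Fin _ ⊕ Fin _ → F}, (∀ j, j ≠ idx _ x → w j = 0) → w = w (idx _ x) • bvC F x := fun {w} k => funext fun j => by
      by_cases n : j = idx _ x <;> simp [bvC, n, k]
    have e1 := k' fun j n => (k j n).1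
    have e2 := k' fun j n => (k j n).2
    rw [e1, e2, iv_smul, iv_smul] at z2
    simp [qK.bb] at z2
    rw [e1, e2, h'.smw q _ _ (q.bb _), h'.smw q _ _ (q.bb _), h'.diag, h'.diag, z2, h'.τ0, mul_one, mul_one]
  have rv : ∀ x : Fin (2 * k), bil _ F (bvC F x.rev) (bvC F x) = 1 := bvC_rev
  have yW : ∀ {r : Rt (2 * k) true} {x}, x = r.1.1 ∨ x = r.1.2 → ∀ c, Y r c ∈ h'.W q ω (bvC F x) := fun {r x} a c => by
    have o := bil_bvC_bvC F r.ne_rev
    simp only [Y]; split_ifs with e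
    · obtain rfl : x = r.1.1 := a.elim id (·.trans e.symm)
      exact h'.τW q _ _
    rcases a with rfl | rfl
    exacts [h'.yW q b _ o, h'.sym _ _ _ o ▸ h'.yW q b _ (q.o' o)]
  have yN : ∀ {r : Rt (2 * k) true} {x}, x ≠ r.1.1.rev ∧ x ≠ r.1.2.rev → ∀ c, Y r c ∈ 𝐍(h'.W q ω (bvC F x)) := fun {r x} a c => by
    by_cases n : x = r.1.1 ∨ x = r.1.2
    · exact le_norm _ (yW n c)
    push Not at n
    simp only [Y]; split_ifs with e
    · exact h'.τN q b _ (bil_bvC_bvC F a.1)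
    exact h'.yN q b c (bil_bvC_bvC F r.ne_rev) (bil_bvC_bvC F a.1) (bil_bvC_bvC F a.2) (bil_bvC_bvC F (by simpa using n.1)) (rv _) (bil_bvC_bvC F (by simpa using e))
      (bil_bvC_bvC F (by simpa using n.2)) (bil_bvC_bvC F (by simpa using Ne.symm e)) (rv _)
  have k2 : 2 ≤ k := by have := q.dim; simp at this; omega
  refine ((realSp K k).exists_hom (full_repC _) (noA1_of_conn (conn_C k) k2) (MinRep.isTab_tab _) (y := Y) (fun r s h1 h2 t u => ?_) fun r t u => ?_).elim fun Φ H => ?_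
  rotate_right
  · have H' : ∀ r c, (Φ ((spEquiv _ K).symm (Y r c).1)).2 = (Y r c).2 := fun r c => by rw [e, MulEquiv.symm_apply_apply]; exact congrArg Prod.snd (H r c)
    refine ⟨((MonoidHom.snd _ _).comp Φ).comp (spEquiv _ K).symm.toMonoidHom, fun a c => by simpa [Y, ττ, Rt.long, iv_bvC] using H' (.long a) c, fun a b c n => ?_⟩
    rcases lt_trichotomy a b with l | rfl | l
    · simpa [Y, yy, l.ne, iv_bvC] using H' ⟨(a, b), .inl l, n⟩ c
    · rw [qK.E_of_mem (sm_self _ _), qK.E_zero, map_one, h.diag]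
    · have := H' ⟨(b, a), .inl l, fun f => n (by simp [show a = b.rev from f])⟩ c
      simp only [Y, l.ne, if_false, ← h'.sym _ _ _ (bil_bvC_bvC F n)] at this
      simpa [yy, iv_bvC] using this
  · obtain ⟨x, a, b, c⟩ := rt_pair r s h1 h2
    have m : (repC (idx k)).tab.commProd Y r s t u ∈ h'.W q ω (bvC F x) := list_prod_mem fun z hz => by
      obtain ⟨j, hk, rfl⟩ := List.mem_map.1 hz
      refine yW ((rt_v _ x).2.2 ?_) _
      have := ((repC (idx k)).tab.between_of_mem_terms hk).le (f := (Pi.evalAddMonoidHom _ x).comp (eucC k).vec)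
      simp only [AddMonoidHom.comp_apply, show ∀ r, (eucC k).vec ((rootC k).α r) = r.v from (eucC k).vec_α, Pi.evalAddMonoidHom_apply] at this
      have a' := (rt_v r x).1.1 a
      have b' := (rt_v s x).1.1 b
      have := this a' b'
      rcases c with c | c <;> linarith [(rt_v _ x).2.1 c]
    have a' := yN a t
    have b' := yN b u
    refine (inv_mul_eq_one.1 (g x _ ?_ ?_)).symm
    · rw [mul_inv_rev, mul_assoc]
      refine mul_mem (inv_mem m) (c.elim (fun c => ?_) fun c => ?_)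
      · simpa [mul_assoc] using mul_mem ((mem_normalizer_iff''.1 b' _).1 (inv_mem (yW c t))) (yW c t)
      · simpa [mul_assoc] using mul_mem (inv_mem (yW c u)) ((mem_normalizer_iff''.1 a' _).1 (yW c u))
    · rw [map_mul, map_inv, inv_mul_eq_one, map_mul, map_mul, map_mul, ChevTab.map_commProd]
      simp only [MonoidHom.coe_fst, e]
      have := congrArg (spEquiv _ K).toMonoidHom ((realSp K k).strongComm r s h1 h2 t u).symm
      rw [map_mul, map_mul, map_mul, ChevTab.map_commProd] at this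
      exact this
  · refine (g r.1.1).eq (yW (.inl rfl) _) (mul_mem (yW (.inl rfl) _) (yW (.inl rfl) _)) ?_
    simp only [map_mul, MonoidHom.coe_fst, e]
    exact (congrArg _ ((realSp K k).sys.x_add r t u)).trans (map_mul _ _ _)

end Cfsg.Lib.SPS.FS
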